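import Groth.Agent.H8Props.RelAssBC.Ring
import Groth.Agent.H7Flat.Chain.RelAssScheme
import Groth.Agent.H8Props.RelFP.PullSections
import Groth.Agent.H29Fitt.PullbackQCoh
import Mathlib.AlgebraicGeometry.Morphisms.Flat
import Mathlib.Algebra.Category.Ring.Constructions

/-!
Relative assassins under base change.
-/

set_option autoImplicit false
set_option linter.style.haveILetI false
set_option backward.isDefEq.respectTransparency false
set_option maxHeartbeats 1000000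

universe u

open AlgebraicGeometry CategoryTheory Limits TensorProduct

namespace Groth.Agent.H8Props.RelAssBC

variable {X S X' S' : Scheme.{u}} {f : X ⟶ S} [LocallyOfFiniteType f] (F : X.Modules) [Coh.IsQCoh F]
  {g : S' ⟶ S} {f' : X' ⟶ S'} {g' : X' ⟶ X} (hc : IsPullback g' f' f g)

include hc in
/-- Both directions, on one pair of charts. -/
theorem chart {V : S.Opens} {V' : S'.Opens} {W : X.Opens} (hV : IsAffineOpen V) (hV' : IsAffineOpen V')
    (hW : IsAffineOpen W) (hVV' : V' ≤ g ⁻¹ᵁ V) (hWV : W ≤ f ⁻¹ᵁ V) :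
    (∀ x' : X', g' x' ∈ W → f' x' ∈ V' → x' ∈ MoreMor.relAss f' ((Scheme.Modules.pullback g').obj F) →
      g' x' ∈ MoreMor.relAss f F) ∧
    ∀ (x : X) (s' : S'), x ∈ W → s' ∈ V' → f x = g s' → x ∈ MoreMor.relAss f F →
      ∃ x' ∈ MoreMor.relAss f' ((Scheme.Modules.pullback g').obj F), f' x' = s' ∧ g' x' = x := by
  haveI : LocallyOfFiniteType f' := MorphismProperty.of_isPullback hc inferInstance
  let W' : X'.Opens := g' ⁻¹ᵁ W ⊓ f' ⁻¹ᵁ V'
  haveI : IsAffine W := hW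
  haveI : IsAffine V := hV
  haveI : IsAffine V' := hV'
  have hW' : IsAffineOpen W' := .of_isIso (Scheme.Hom.isPullback_resLE hc hVV' hWV rfl).isoPullback.hom
  have h1 : W' ≤ g' ⁻¹ᵁ W := inf_le_left
  have h2 : W' ≤ f' ⁻¹ᵁ V' := inf_le_right
  have hsq := (isIso_pushoutSection_iff hc hVV' hWV rfl).mp
    (isIso_pushoutSection_of_isAffineOpen hc hVV' hWV rfl hV hV' hW)
  letI algB : Algebra Γ(S, V) Γ(X, W) := (f.appLE V W hWV).hom.toAlgebra
  letI algA : Algebra Γ(S, V) Γ(S', V') := (g.appLE V V' hVV').hom.toAlgebra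
  letI algB' : Algebra Γ(S', V') Γ(X', W') := (f'.appLE V' W' h2).hom.toAlgebra
  letI algC : Algebra Γ(X, W) Γ(X', W') := (g'.appLE W W' h1).hom.toAlgebra
  letI : Algebra Γ(S, V) Γ(X', W') := ((f'.appLE V' W' h2).hom.comp (g.appLE V V' hVV').hom).toAlgebra
  haveI : IsScalarTower Γ(S, V) Γ(S', V') Γ(X', W') := .of_algebraMap_eq' rfl
  haveI : IsScalarTower Γ(S, V) Γ(X, W) Γ(X', W') := .of_algebraMap_eq fun a =>
    (congr($(hsq.w).hom a)).symm
  haveI hpo : Algebra.IsPushout Γ(S, V) Γ(X, W) Γ(S', V') Γ(X', W') :=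
    CommRingCat.isPushout_iff_isPushout.mp hsq
  letI : Module Γ(S, V) Γ(F, W) := Module.compHom _ (algebraMap Γ(S, V) Γ(X, W))
  haveI : IsScalarTower Γ(S, V) Γ(X, W) Γ(F, W) := .of_algebraMap_smul fun _ _ => rfl
  let F' := (Scheme.Modules.pullback g').obj F
  haveI hF' : Coh.IsQCoh F' := H29Fitt.isQCoh_pullback g' F inferInstance
  letI : Module Γ(S', V') Γ(F', W') := Module.compHom _ (algebraMap Γ(S', V') Γ(X', W'))
  haveI : IsScalarTower Γ(S', V') Γ(X', W') Γ(F', W') := .of_algebraMap_smul fun _ _ => rfl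
  letI : Module Γ(X, W) Γ(F', W') := Module.compHom _ (g'.appLE W W' h1).hom
  haveI : IsScalarTower Γ(X, W) Γ(X', W') Γ(F', W') := .of_algebraMap_smul fun _ _ => rfl
  have hbc := PullSections.isBaseChange_pullLin g' F h1 inferInstance hW hW'
  haveI : Algebra.FiniteType Γ(S, V) Γ(X, W) := f.finiteType_appLE hV hW hWV
  constructor
  · intro x' hxW hxV hx
    let p' : W' := ⟨x', hxW, hxV⟩
    have hx' := (H7Flat.Chain.RelAss.mem_relAss_iff f' F' hF' hV' hW' h2 p' rfl).mp hx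
    rw [H7Flat.Chain.RelAss.mem_relAss_iff f F inferInstance hV hW hWV ⟨g' x', hxW⟩ rfl]
    have e1 : (hV.primeIdealOf ⟨f (g' x'), hWV hxW⟩) =
        (hV.primeIdealOf ⟨g (f' x'), hVV' hxV⟩) :=
      congrArg hV.primeIdealOf (Subtype.ext (show (g' ≫ f) x' = (f' ≫ g) x' by rw [hc.w]))
    haveI : (hV'.primeIdealOf ⟨f' x', hxV⟩).asIdeal.LiesOver (hV.primeIdealOf ⟨f (g' x'), hWV hxW⟩).asIdeal := ⟨by
      rw [e1]
      exact (congrArg PrimeSpectrum.asIdeal (IsAffineOpen.comap_primeIdealOf_appLE (f := g) V hV V' hV' hVV' hxV)).symm⟩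
    haveI : (hW'.primeIdealOf p').asIdeal.LiesOver (hV'.primeIdealOf ⟨f' x', hxV⟩).asIdeal := ⟨
      (congrArg PrimeSpectrum.asIdeal (IsAffineOpen.comap_primeIdealOf_appLE (f := f') V' hV' W' hW' h2 p'.2)).symm⟩
    have hq : (hW'.primeIdealOf p').asIdeal.comap (algebraMap Γ(X, W) Γ(X', W')) =
        (hW.primeIdealOf ⟨g' x', hxW⟩).asIdeal :=
      congrArg PrimeSpectrum.asIdeal (IsAffineOpen.comap_primeIdealOf_appLE (f := g') W hW W' hW' h1 p'.2)
    have := H7Flat.ImpurityDescend.fiberIdeal_comap_mem_associatedPrimes hbc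
      (hV.primeIdealOf ⟨f (g' x'), hWV hxW⟩).asIdeal (hV'.primeIdealOf ⟨f' x', hxV⟩).asIdeal
      (hW'.primeIdealOf p').asIdeal hx'
    rwa [hq] at this
  · intro x s' hxW hsV hxs hx
    have hx0 := (H7Flat.Chain.RelAss.mem_relAss_iff f F inferInstance hV hW hWV ⟨x, hxW⟩ rfl).mp hx
    haveI : (hW.primeIdealOf ⟨x, hxW⟩).asIdeal.LiesOver (hV.primeIdealOf ⟨f x, hWV hxW⟩).asIdeal :=
      ⟨(congrArg PrimeSpectrum.asIdeal (IsAffineOpen.comap_primeIdealOf_appLE (f := f) V hV W hW hWV hxW)).symm⟩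
    haveI : (hV'.primeIdealOf ⟨s', hsV⟩).asIdeal.LiesOver (hV.primeIdealOf ⟨f x, hWV hxW⟩).asIdeal := ⟨by
      rw [show (⟨f x, hWV hxW⟩ : V) = ⟨g s', hVV' hsV⟩ from Subtype.ext hxs]
      exact (congrArg PrimeSpectrum.asIdeal (IsAffineOpen.comap_primeIdealOf_appLE (f := g) V hV V' hV' hVV' hsV)).symm⟩
    obtain ⟨P', hP', hover, hcomap, hass⟩ := exists_fiberIdeal_over hbc
      (hV.primeIdealOf ⟨f x, hWV hxW⟩).asIdeal (hV'.primeIdealOf ⟨s', hsV⟩).asIdeal
      (hW.primeIdealOf ⟨x, hxW⟩).asIdeal hx0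
    obtain ⟨p', hp'⟩ := H29Blow.exists_primeIdealOf_eq hW' (⟨P', hP'⟩ : PrimeSpectrum Γ(X', W'))
    have hP : (hW'.primeIdealOf p').asIdeal = P' := congrArg PrimeSpectrum.asIdeal hp'
    have ef : (⟨f' p'.1, h2 p'.2⟩ : V') = ⟨s', hsV⟩ := by
      have e0 : hV'.primeIdealOf ⟨f' p'.1, h2 p'.2⟩ = hV'.primeIdealOf ⟨s', hsV⟩ := by
        rw [← IsAffineOpen.comap_primeIdealOf_appLE (f := f') V' hV' W' hW' h2 p'.2]
        exact PrimeSpectrum.ext ((congrArg (Ideal.comap _) hP).trans hover.over.symm)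
      exact Subtype.ext (by rw [← hV'.fromSpec_primeIdealOf ⟨f' p'.1, h2 p'.2⟩, e0, hV'.fromSpec_primeIdealOf])
    have eg : (⟨g' p'.1, h1 p'.2⟩ : W) = ⟨x, hxW⟩ := by
      have e0 : hW.primeIdealOf ⟨g' p'.1, h1 p'.2⟩ = hW.primeIdealOf ⟨x, hxW⟩ := by
        rw [← IsAffineOpen.comap_primeIdealOf_appLE (f := g') W hW W' hW' h1 p'.2]
        exact PrimeSpectrum.ext ((congrArg (Ideal.comap _) hP).trans hcomap)
      exact Subtype.ext (by rw [← hW.fromSpec_primeIdealOf ⟨g' p'.1, h1 p'.2⟩, e0, hW.fromSpec_primeIdealOf])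
    refine ⟨p'.1, ?_, congrArg Subtype.val ef, congrArg Subtype.val eg⟩
    rw [H7Flat.Chain.RelAss.mem_relAss_iff f' F' hF' hV' hW' h2 p' rfl, ef, hP]
    exact hass

include hc in
/-- Associated points of a fibre after base change lie over associated points of the fibre. -/
theorem map_mem_relAss {x' : X'} (hx : x' ∈ MoreMor.relAss f' ((Scheme.Modules.pullback g').obj F)) :
    g' x' ∈ MoreMor.relAss f F := by
  obtain ⟨V, hV, hxV, -⟩ := exists_isAffineOpen_mem_and_subset (x := g (f' x')) (U := ⊤) trivial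
  obtain ⟨V', hV', hxV', hVV'⟩ := exists_isAffineOpen_mem_and_subset (x := f' x') (U := g ⁻¹ᵁ V) hxV
  obtain ⟨W, hW, hxW, hWV⟩ := exists_isAffineOpen_mem_and_subset (x := g' x') (U := f ⁻¹ᵁ V)
    (show f (g' x') ∈ V by rw [← Scheme.Hom.comp_apply, hc.w, Scheme.Hom.comp_apply]; exact hxV)
  exact (chart F hc hV hV' hW hVV' hWV).1 x' hxW hxV' hx

include hc in
/-- Every associated point of a fibre is below one of the fibre after base change. -/
theorem exists_relAss_over {x : X} {s' : S'} (hxs : f x = g s') (hx : x ∈ MoreMor.relAss f F) :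
    ∃ x' ∈ MoreMor.relAss f' ((Scheme.Modules.pullback g').obj F), f' x' = s' ∧ g' x' = x := by
  obtain ⟨V, hV, hxV, -⟩ := exists_isAffineOpen_mem_and_subset (x := g s') (U := ⊤) trivial
  obtain ⟨V', hV', hxV', hVV'⟩ := exists_isAffineOpen_mem_and_subset (x := s') (U := g ⁻¹ᵁ V) hxV
  obtain ⟨W, hW, hxW, hWV⟩ := exists_isAffineOpen_mem_and_subset (x := x) (U := f ⁻¹ᵁ V)
    (show f x ∈ V by rw [hxs]; exact hxV)
  exact (chart F hc hV hV' hW hVV' hWV).2 x s' hxW hxV' hxs hx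

include hc in
theorem relAss_fibre_subset_open_iff (U : X.Opens) (s' : S') :
    {x : X | x ∈ MoreMor.relAss f F ∧ f x = g s'} ⊆ (U : Set X) ↔
      {x' : X' | x' ∈ MoreMor.relAss f' ((Scheme.Modules.pullback g').obj F) ∧ f' x' = s'} ⊆ (g' ⁻¹ᵁ U : Set X') := by
  refine ⟨fun h x' hx' => ?_, fun h x hx => ?_⟩
  · refine h ⟨map_mem_relAss F hc hx'.1, ?_⟩
    rw [← Scheme.Hom.comp_apply, hc.w, Scheme.Hom.comp_apply, hx'.2]
  · obtain ⟨x', h', hs, hg⟩ := exists_relAss_over F hc hx.2 hx.1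
    rw [← hg]
    exact h ⟨h', hs⟩

end Groth.Agent.H8Props.RelAssBC
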