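import Groth.Agent.H7Flat.ImpurityDescend
import Mathlib.RingTheory.Ideal.GoingDown
import Mathlib.RingTheory.Flat.FaithfullyFlat.Algebra

/-!
Associated primes of fibre modules: surjectivity under base change of the base.
-/

open TensorProduct
open Groth.Agent.H7Flat.ImpurityDescend

universe u

namespace Groth.Agent.H8Props.RelAssBC

set_option backward.isDefEq.respectTransparency false
set_option maxHeartbeats 1000000
set_option synthInstance.maxHeartbeats 400000
set_option autoImplicit false
attribute [local instance] Algebra.TensorProduct.rightAlgebra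

/-- Every associated prime lifts along a faithfully flat map of Noetherian rings. -/
theorem exists_associatedPrime_over {F F' M M' : Type u} [CommRing F] [CommRing F'] [Algebra F F']
    [Module.FaithfullyFlat F F'] [IsNoetherianRing F] [IsNoetherianRing F'] [AddCommGroup M] [Module F M]
    [AddCommGroup M'] [Module F' M'] [Module F M'] [IsScalarTower F F' M'] {g : M →ₗ[F] M'}
    (hg : IsBaseChange F' g) {Q : Ideal F} (hQ : Q ∈ associatedPrimes F M) :
    ∃ Q' ∈ associatedPrimes F' M', Q'.comap (algebraMap F F') = Q := by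
  obtain ⟨hQp, x, hx⟩ := isAssociatedPrime_iff.mp hQ
  have hmem : ∀ b, b ∈ Q ↔ b • x = 0 := fun b => by
    rw [hx, Submodule.mem_colon_singleton, Submodule.mem_bot]
  let ι : (F ⧸ Q) →ₗ[F] M := Submodule.liftQ Q (LinearMap.toSpanSingleton F M x) fun b hb => by
    simpa using (hmem b).mp hb
  have hι : Function.Injective ι := by
    rw [← LinearMap.ker_eq_bot]
    exact Submodule.ker_liftQ_eq_bot _ _ _ fun b hb => (hmem b).mpr (by simpa using hb)
  let J : Ideal F' := Submodule.colon (⊥ : Submodule F' M') {g x}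
  have hJ : J ≤ Q.map (algebraMap F F') := by
    intro e he
    rw [Submodule.mem_colon_singleton, Submodule.mem_bot, ← hg.equiv_tmul] at he
    have h0 : (e ⊗ₜ[F] Ideal.Quotient.mk Q 1 : F' ⊗[F] (F ⧸ Q)) = 0 := by
      apply Module.Flat.lTensor_preserves_injective_linearMap (M := F') ι hι
      rw [map_zero, LinearMap.lTensor_tmul, show ι (Ideal.Quotient.mk Q 1) = x from one_smul F x]
      exact hg.equiv.injective (he.trans (map_zero _).symm)
    have h1 := congrArg (TensorProduct.tensorQuotEquivQuotSMul F' Q) h0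
    rwa [TensorProduct.tensorQuotEquivQuotSMul_tmul_mk, map_zero, one_smul,
      Submodule.Quotient.mk_eq_zero, Ideal.smul_top_eq_map, Submodule.restrictScalars_mem] at h1
  have hJ' : Q.map (algebraMap F F') ≤ J := Ideal.map_le_iff_le_comap.mpr fun b hb => by
    rw [Ideal.mem_comap, Submodule.mem_colon_singleton, Submodule.mem_bot, algebraMap_smul, ← map_smul,
      (hmem b).mp hb, map_zero]
  obtain ⟨q0, hq0⟩ := PrimeSpectrum.comap_surjective_of_faithfullyFlat (A := F) (B := F') ⟨Q, hQp⟩
  have hJq0 : J ≤ q0.asIdeal := hJ.trans (Ideal.map_le_iff_le_comap.mpr (congrArg PrimeSpectrum.asIdeal hq0).ge)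
  obtain ⟨q, hqmin, hqle⟩ := Ideal.exists_minimalPrimes_le hJq0
  refine ⟨q, isAssociatedPrime_iff.mpr ⟨hqmin.1.1, Submodule.exists_eq_colon_of_mem_minimalPrimes hqmin⟩, ?_⟩
  refine le_antisymm ((Ideal.comap_mono hqle).trans (congrArg PrimeSpectrum.asIdeal hq0).le) ?_
  exact Ideal.map_le_iff_le_comap.mp (hJ'.trans hqmin.1.2)

/-- Associated points of fibre modules lift under base change of the base. -/
theorem exists_fiberIdeal_over {R R' S S' N N' : Type u} [CommRing R] [CommRing R']
    [CommRing S] [CommRing S'] [Algebra R R'] [Algebra R S] [Algebra R' S'] [Algebra S S']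
    [Algebra R S'] [IsScalarTower R R' S'] [IsScalarTower R S S'] [Algebra.IsPushout R S R' S']
    [AddCommGroup N] [Module S N] [AddCommGroup N'] [Module S' N'] [Module S N']
    [IsScalarTower S S' N'] {g : N →ₗ[S] N'} (hg : IsBaseChange S' g)
    (t : Ideal R) [t.IsPrime] (t' : Ideal R') [t'.IsPrime] [t'.LiesOver t]
    [Algebra.FiniteType R S] (P : Ideal S) [P.IsPrime] [P.LiesOver t]
    (hP : FlatCA.fiberIdeal t P ∈ associatedPrimes (t.Fiber S) (FlatCA.fiberMod t S N)) :
    ∃ P' : Ideal S', P'.IsPrime ∧ P'.LiesOver t' ∧ P'.comap (algebraMap S S') = P ∧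
      FlatCA.fiberIdeal t' P' ∈ associatedPrimes (t'.Fiber S') (FlatCA.fiberMod t' S' N') := by
  let ν : t.ResidueField →ₐ[R] t'.ResidueField :=
    Ideal.ResidueField.mapₐ t t' (Algebra.ofId R R') (t'.over_def t)
  let : Algebra t.ResidueField t'.ResidueField := ν.toRingHom.toAlgebra
  have : IsScalarTower R t.ResidueField t'.ResidueField :=
    IsScalarTower.of_algebraMap_eq fun r => (ν.commutes r).symm
  let : Algebra S (t'.Fiber S') := ((algebraMap S' (t'.Fiber S')).comp (algebraMap S S')).toAlgebra
  have : IsScalarTower S S' (t'.Fiber S') := IsScalarTower.of_algebraMap_eq fun _ => rfl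
  have : IsScalarTower R R' (t'.Fiber S') := inferInstance
  have : IsScalarTower R S (t'.Fiber S') := IsScalarTower.of_algebraMap_eq fun r => by
    change _ = algebraMap S' (t'.Fiber S') (algebraMap S S' (algebraMap R S r))
    rw [← IsScalarTower.algebraMap_apply R S S', IsScalarTower.algebraMap_apply R R' S',
      ← IsScalarTower.algebraMap_apply R' S' (t'.Fiber S'), ← IsScalarTower.algebraMap_apply]
  let φ : t.Fiber S →ₐ[R] t'.Fiber S' := Algebra.TensorProduct.lift
    ((IsScalarTower.toAlgHom R t'.ResidueField (t'.Fiber S')).comp ν)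
    (IsScalarTower.toAlgHom R S (t'.Fiber S')) (fun _ _ => mul_comm _ _)
  let : Algebra (t.Fiber S) (t'.Fiber S') := φ.toRingHom.toAlgebra
  have hφS : ∀ s, φ (algebraMap S (t.Fiber S) s) = algebraMap S (t'.Fiber S') s := fun s => by
    change φ ((1 : t.ResidueField) ⊗ₜ[R] s) = _
    simp [φ, ← Algebra.TensorProduct.one_def]
  have : IsScalarTower S (t.Fiber S) (t'.Fiber S') :=
    IsScalarTower.of_algebraMap_eq fun s => (hφS s).symm
  have : IsScalarTower t.ResidueField (t.Fiber S) (t'.Fiber S') :=
    IsScalarTower.of_algebraMap_eq fun k => by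
      change _ = φ (k ⊗ₜ[R] (1 : S))
      simp [φ]
      rfl
  have : IsScalarTower R S' (t'.Fiber S') := IsScalarTower.of_algebraMap_eq fun r => by
    rw [IsScalarTower.algebraMap_apply R R' S', ← IsScalarTower.algebraMap_apply R' S' (t'.Fiber S'),
      ← IsScalarTower.algebraMap_apply]
  have : Algebra.IsPushout R R' S S' := Algebra.IsPushout.symm inferInstance
  have h0 : Algebra.IsPushout R' t'.ResidueField S' (t'.Fiber S') := inferInstance
  have h1 : Algebra.IsPushout R t'.ResidueField S (t'.Fiber S') :=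
    (Algebra.IsPushout.comp_iff R R' S S' (T := t'.ResidueField) (T' := t'.Fiber S')).mpr h0
  have h2 : Algebra.IsPushout R t.ResidueField S (t.Fiber S) := inferInstance
  have h3 : Algebra.IsPushout t.ResidueField t'.ResidueField (t.Fiber S) (t'.Fiber S') :=
    (Algebra.IsPushout.comp_iff R t.ResidueField S (t.Fiber S) (T := t'.ResidueField)
      (T' := t'.Fiber S')).mp h1
  have h4 := h3.symm
  have : Module.Free (t.Fiber S) (t'.Fiber S') :=
    free_of_isPushout t.ResidueField (t.Fiber S) t'.ResidueField (t'.Fiber S')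
  let : Module (t.Fiber S) (FlatCA.fiberMod t' S' N') := Module.compHom (FlatCA.fiberMod t' S' N') (algebraMap (t.Fiber S) (t'.Fiber S'))
  have : IsScalarTower (t.Fiber S) (t'.Fiber S') (FlatCA.fiberMod t' S' N') :=
    IsScalarTower.of_algebraMap_smul fun _ _ => rfl
  let : Module S (FlatCA.fiberMod t' S' N') := Module.compHom (FlatCA.fiberMod t' S' N') (algebraMap S S')
  have : IsScalarTower S S' (FlatCA.fiberMod t' S' N') := IsScalarTower.of_algebraMap_smul fun _ _ => rfl
  have : IsScalarTower S' (t'.Fiber S') (FlatCA.fiberMod t' S' N') :=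
    IsScalarTower.of_algebraMap_smul fun s m =>
      algebraMap_smul (t'.Fiber S') s (show (t'.Fiber S') ⊗[S'] N' from m)
  have : IsScalarTower S (t'.Fiber S') (FlatCA.fiberMod t' S' N') := IsScalarTower.of_algebraMap_smul fun s m => by
    exact algebraMap_smul (t'.Fiber S') (algebraMap S S' s) m
  have : IsScalarTower S (t.Fiber S) (FlatCA.fiberMod t' S' N') := IsScalarTower.of_algebraMap_smul fun s m => by
    change φ (algebraMap S (t.Fiber S) s) • m = _
    rw [hφS, algebraMap_smul]
  have hM' : IsBaseChange (t'.Fiber S') (FlatCA.toFiberMod t' S' N') :=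
    TensorProduct.isBaseChange S' N' (t'.Fiber S')
  have : IsScalarTower S (t.Fiber S) (FlatCA.fiberMod t S N) :=
    IsScalarTower.of_algebraMap_smul fun s m =>
      algebraMap_smul (t.Fiber S) s (show (t.Fiber S) ⊗[S] N from m)
  have hM : IsBaseChange (t.Fiber S) (FlatCA.toFiberMod t S N) :=
    TensorProduct.isBaseChange S N (t.Fiber S)
  let fN : N →ₗ[S] (FlatCA.fiberMod t' S' N') := ((FlatCA.toFiberMod t' S' N').restrictScalars S).comp g
  have hfN : IsBaseChange (t'.Fiber S') fN := IsBaseChange.comp hg hM'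
  let γ : FlatCA.fiberMod t S N →ₗ[t.Fiber S] (FlatCA.fiberMod t' S' N') := hM.lift fN
  have hγ : IsBaseChange (t'.Fiber S') γ := by
    refine IsBaseChange.of_comp hM ?_
    rw [show γ.restrictScalars S ∘ₗ FlatCA.toFiberMod t S N = fN from hM.lift_comp fN]
    exact hfN
  haveI : IsNoetherianRing (t.Fiber S) := Algebra.FiniteType.isNoetherianRing t.ResidueField _
  haveI : Algebra.FiniteType R' S' := Algebra.FiniteType.equiv (inferInstance : Algebra.FiniteType R' (R' ⊗[R] S))
    (Algebra.IsPushout.equiv R R' S S')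
  haveI : IsNoetherianRing (t'.Fiber S') := Algebra.FiniteType.isNoetherianRing t'.ResidueField _
  haveI : Nontrivial (t'.ResidueField ⊗[t.ResidueField] t.Fiber S) :=
    haveI : Nontrivial (t.Fiber S) := nontrivial_of_ne (1 : t.Fiber S) 0 fun h01 => hP.isPrime.ne_top
      ((Ideal.eq_top_iff_one _).mpr (by rw [h01]; exact Submodule.zero_mem _))
    (Algebra.TensorProduct.includeRight_injective (A := t'.ResidueField) (B := t.Fiber S)
      (R := t.ResidueField) (algebraMap t.ResidueField t'.ResidueField).injective).nontrivial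
  haveI : Nontrivial (t'.Fiber S') :=
    (Algebra.IsPushout.equiv t.ResidueField t'.ResidueField (t.Fiber S) (t'.Fiber S')).toEquiv.symm.nontrivial
  obtain ⟨Q', hQ', hc⟩ := exists_associatedPrime_over hγ hP
  haveI := hQ'.isPrime
  refine ⟨Q'.comap (algebraMap S' (t'.Fiber S')), inferInstance, ⟨?_⟩, ?_, by rwa [fiberIdeal_comap]⟩
  · rw [Ideal.under_def, Ideal.comap_comap, ← IsScalarTower.algebraMap_eq R' S' (t'.Fiber S'),
      IsScalarTower.algebraMap_eq R' t'.ResidueField (t'.Fiber S'), ← Ideal.comap_comap,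
      (Ideal.eq_bot_or_top (Q'.comap (algebraMap t'.ResidueField (t'.Fiber S')))).resolve_right
        (Ideal.IsPrime.ne_top inferInstance), ← RingHom.ker_eq_comap_bot,
      Ideal.ker_algebraMap_residueField]
  · rw [Ideal.comap_comap, ← IsScalarTower.algebraMap_eq S S' (t'.Fiber S'),
      IsScalarTower.algebraMap_eq S (t.Fiber S) (t'.Fiber S'), ← Ideal.comap_comap, hc, comap_fiberIdeal]

end Groth.Agent.H8Props.RelAssBC
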